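import Mathlib.RingTheory.LocalProperties.Exactness
import Mathlib.RingTheory.Localization.BaseChange
import Mathlib.RingTheory.LocalRing.Module
import Mathlib.RingTheory.Ideal.KrullsHeightTheorem
import Mathlib.RingTheory.TensorProduct.Free
import Mathlib.LinearAlgebra.Determinant
import Mathlib.RingTheory.LocalRing.ResidueField.Ideal

/-!
# Bijectivity of maps of finite projective modules can be checked in height ≤ 1
-/

set_option autoImplicit false
universe u

open TensorProduct

namespace Groth.Agent.CodimOne28

variable {R : Type u} [CommRing R] {N M : Type u} [AddCommGroup N] [Module R N]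
  [AddCommGroup M] [Module R M] (φ : N →ₗ[R] M)

/-- Hypothesis: bijective after base change to every field lying over a prime of height `≤ 1`. -/
def FibreBij : Prop :=
  ∀ (K : Type u) [Field K] [Algebra R K], (RingHom.ker (algebraMap R K)).height ≤ 1 →
    Function.Bijective (φ.baseChange K)

theorem bijective_of_fibreBij_local [IsLocalRing R] [IsNoetherianRing R]
    [Module.Finite R N] [Module.Free R N] [Module.Finite R M] [Module.Free R M]
    (h : FibreBij φ) : Function.Bijective φ := by
  classical
  let b := Module.Free.chooseBasis R N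
  let c₀ := Module.Free.chooseBasis R M
  obtain ⟨q, hq, -⟩ := Ideal.exists_minimalPrimes_le
    (bot_le : (⊥ : Ideal R) ≤ IsLocalRing.maximalIdeal R)
  haveI := hq.isPrime
  have hq1 : q.height ≤ 1 :=
    Ideal.height_le_one_of_isPrincipal_of_mem_minimalPrimes ⊥ q hq
  let e₀ := LinearEquiv.ofBijective _ (h q.ResidueField (by rwa [Ideal.ker_algebraMap_residueField]))
  let eι := ((b.baseChange q.ResidueField).map e₀).indexEquiv (c₀.baseChange q.ResidueField)
  let c := c₀.reindex eι.symm
  by_cases hd : IsUnit (LinearMap.toMatrix b c φ).det
  · exact (LinearEquiv.coe_ofIsUnitDet hd) ▸ (LinearEquiv.ofIsUnitDet hd).bijective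
  · exfalso
    have hne : Ideal.span {(LinearMap.toMatrix b c φ).det} ≠ ⊤ := by
      rwa [Ne, Ideal.span_singleton_eq_top]
    obtain ⟨P, hPmax, hP⟩ := Ideal.exists_le_maximal _ hne
    haveI := hPmax.isPrime
    obtain ⟨p, hp, -⟩ := Ideal.exists_minimalPrimes_le hP
    haveI := hp.isPrime
    have hp1 : p.height ≤ 1 :=
      Ideal.height_le_one_of_isPrincipal_of_mem_minimalPrimes _ p hp
    let e := LinearEquiv.ofBijective _ (h p.ResidueField (by rwa [Ideal.ker_algebraMap_residueField]))
    have hu := e.isUnit_det (Algebra.TensorProduct.basis p.ResidueField b) (Algebra.TensorProduct.basis p.ResidueField c)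
    have hm : LinearMap.toMatrix (Algebra.TensorProduct.basis p.ResidueField b) (Algebra.TensorProduct.basis p.ResidueField c)
        (e : _ →ₗ[p.ResidueField] _) =
        (algebraMap R p.ResidueField).mapMatrix (LinearMap.toMatrix b c φ) :=
      LinearMap.toMatrix_baseChange p.ResidueField φ b c
    rw [hm, ← RingHom.map_det, isUnit_iff_ne_zero, Ne, Ideal.algebraMap_residueField_eq_zero] at hu
    exact hu (hp.le (Ideal.mem_span_singleton_self _))

theorem map_mk_eq_baseChange (P : Ideal R) [P.IsPrime]
    [IsLocalizedModule P.primeCompl (TensorProduct.mk R (Localization.AtPrime P) N 1)]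
    [IsLocalizedModule P.primeCompl (TensorProduct.mk R (Localization.AtPrime P) M 1)] :
    IsLocalizedModule.map P.primeCompl (TensorProduct.mk R (Localization.AtPrime P) N 1)
      (TensorProduct.mk R (Localization.AtPrime P) M 1) φ =
      (φ.baseChange (Localization.AtPrime P)).restrictScalars R := by
  refine IsLocalizedModule.linearMap_ext P.primeCompl
    (TensorProduct.mk R (Localization.AtPrime P) N 1)
    (TensorProduct.mk R (Localization.AtPrime P) M 1) ?_
  apply LinearMap.ext
  intro x
  rw [LinearMap.comp_apply, IsLocalizedModule.map_apply, LinearMap.comp_apply,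
    LinearMap.restrictScalars_apply, TensorProduct.mk_apply, TensorProduct.mk_apply,
    LinearMap.baseChange_tmul]

theorem bijective_of_fibreBij [IsNoetherianRing R]
    [Module.Finite R N] [Module.Projective R N] [Module.Finite R M] [Module.Projective R M]
    (h : FibreBij φ) : Function.Bijective φ := by
  haveI : ∀ (P : Ideal R) [P.IsMaximal], IsLocalizedModule P.primeCompl
      (TensorProduct.mk R (Localization.AtPrime P) N 1) := fun P _ =>
    (isLocalizedModule_iff_isBaseChange P.primeCompl (Localization.AtPrime P) _).mpr
      (TensorProduct.isBaseChange _ _ _)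
  haveI : ∀ (P : Ideal R) [P.IsMaximal], IsLocalizedModule P.primeCompl
      (TensorProduct.mk R (Localization.AtPrime P) M 1) := fun P _ =>
    (isLocalizedModule_iff_isBaseChange P.primeCompl (Localization.AtPrime P) _).mpr
      (TensorProduct.isBaseChange _ _ _)
  refine bijective_of_isLocalized_maximal
    (fun P _ => Localization.AtPrime P ⊗[R] N)
    (fun P _ => TensorProduct.mk R (Localization.AtPrime P) N 1)
    (fun P _ => Localization.AtPrime P ⊗[R] M)
    (fun P _ => TensorProduct.mk R (Localization.AtPrime P) M 1) φ (fun P _ => ?_)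
  rw [map_mk_eq_baseChange φ P]
  set RP := Localization.AtPrime P
  rw [LinearMap.coe_restrictScalars]
  haveI : Module.Free RP (RP ⊗[R] N) := Module.free_of_flat_of_isLocalRing
  haveI : Module.Free RP (RP ⊗[R] M) := Module.free_of_flat_of_isLocalRing
  refine bijective_of_fibreBij_local _ fun K _ _ hK => ?_
  letI : Algebra R K := ((algebraMap RP K).comp (algebraMap R RP)).toAlgebra
  haveI : IsScalarTower R RP K := IsScalarTower.of_algebraMap_eq' rfl
  have hker : RingHom.ker (algebraMap R K) = (RingHom.ker (algebraMap RP K)).under R :=
    (RingHom.comap_ker _ _).symm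
  have hb := h K (by rwa [hker, IsLocalization.height_under P.primeCompl])
  have e : ((φ.baseChange RP).baseChange K) =
      (TensorProduct.AlgebraTensorModule.cancelBaseChange R RP K K M).symm.toLinearMap ∘ₗ
        φ.baseChange K ∘ₗ
        (TensorProduct.AlgebraTensorModule.cancelBaseChange R RP K K N).toLinearMap := by
    ext x
    simp
  rw [e, LinearMap.coe_comp, LinearMap.coe_comp]
  exact (LinearEquiv.bijective _).comp (hb.comp (LinearEquiv.bijective _))

end Groth.Agent.CodimOne28
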