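import Groth.Agent.Lib.CodimOne28.Alg
import Mathlib.AlgebraicGeometry.Morphisms.Finite
import Mathlib.AlgebraicGeometry.Morphisms.Flat
import Mathlib.AlgebraicGeometry.Morphisms.IsIso
import Mathlib.AlgebraicGeometry.ResidueField
import Mathlib.AlgebraicGeometry.Noetherian
import Mathlib.RingTheory.Flat.EquationalCriterion
import Mathlib.CategoryTheory.Comma.Over.Pullback
import Mathlib.AlgebraicGeometry.Morphisms.Affine

/-!
# A morphism of finite flat schemes which is an iso on fibres over codim ≤ 1 is an iso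
-/

set_option autoImplicit false
universe u

open CategoryTheory Limits AlgebraicGeometry TopologicalSpace Opposite
open scoped TensorProduct

namespace Groth.Agent.CodimOne28

variable {S : Scheme.{u}}

theorem pullback_map_left {T : Scheme.{u}} (t : T ⟶ S) {A B : Over S} (f : A ⟶ B) :
    ((Over.pullback t).map f).left = pullback.map A.hom t B.hom t f.left (𝟙 _) (𝟙 S)
      ((Category.comp_id _).trans (Over.w f).symm)
      ((Category.comp_id _).trans (Category.id_comp _).symm) := by
  apply pullback.hom_ext <;> simp [Over.pullback, pullback.lift_fst, pullback.lift_snd, pullback.map]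

theorem isIso_pullback_field {A B : Over S} (f : A ⟶ B) (K : Type u) [Field K]
    (t : Spec (.of K) ⟶ S)
    (h : IsIso ((Over.pullback (S.fromSpecResidueField (t (IsLocalRing.closedPoint K)))).map f)) :
    IsIso ((Over.pullback t).map f) := by
  rw [← Scheme.descResidueField_stalkClosedPointTo_fromSpecResidueField K S t]
  rw [NatIso.isIso_map_iff (Over.pullbackComp _ _) f]
  dsimp only [Functor.comp_map]
  infer_instance

theorem isPullback_fromSpec {X : Scheme.{u}} (p : X ⟶ S) {U : S.Opens} (hU : IsAffineOpen U)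
    {W : X.Opens} (hW : IsAffineOpen W) (e : W = p ⁻¹ᵁ U) :
    IsPullback hW.fromSpec (Spec.map (p.appLE U W e.le)) p hU.fromSpec := by
  refine (IsOpenImmersion.isPullback _ hW.fromSpec hU.fromSpec p ?_ ?_).flip
  · exact (IsAffineOpen.SpecMap_appLE_fromSpec p hU hW e.le).symm
  · rw [hU.opensRange_fromSpec, hW.opensRange_fromSpec, e]

theorem isPullback_tensor {X : Scheme.{u}} (p : X ⟶ S) {U : S.Opens} (hU : IsAffineOpen U)
    {W : X.Opens} (hW : IsAffineOpen W) (e : W = p ⁻¹ᵁ U)
    (K : Type u) [CommRing K] [Algebra Γ(S, U) K] [Algebra Γ(S, U) Γ(X, W)]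
    (halg : algebraMap Γ(S, U) Γ(X, W) = (p.appLE U W e.le).hom) :
    IsPullback (Spec.map (CommRingCat.ofHom
        (Algebra.TensorProduct.includeRight :
          Γ(X, W) →ₐ[Γ(S, U)] K ⊗[Γ(S, U)] Γ(X, W)).toRingHom) ≫ hW.fromSpec)
      (Spec.map (CommRingCat.ofHom
        (Algebra.TensorProduct.includeLeftRingHom : K →+* K ⊗[Γ(S, U)] Γ(X, W))))
      p (Spec.map (CommRingCat.ofHom (algebraMap Γ(S, U) K)) ≫ hU.fromSpec) := by
  have h1 := isPullback_SpecMap_of_isPushout _ _ _ _
    (CommRingCat.isPushout_tensorProduct Γ(S, U) K Γ(X, W)).flip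
  have h2 := isPullback_fromSpec p hU hW e
  rw [halg, CommRingCat.ofHom_hom] at h1
  exact h1.paste_horiz h2

theorem bijective_of_isIso_pullback {A B : Over S} (f : A ⟶ B) {U : S.Opens} (hU : IsAffineOpen U)
    {V : B.left.Opens} (hV : IsAffineOpen V) (eV : V = B.hom ⁻¹ᵁ U)
    {W : A.left.Opens} (hW : IsAffineOpen W) (eW : W = A.hom ⁻¹ᵁ U) (e : W ≤ f.left ⁻¹ᵁ V)
    (K : Type u) [Field K] [Algebra Γ(S, U) K]
    [Algebra Γ(S, U) Γ(B.left, V)] [Algebra Γ(S, U) Γ(A.left, W)]
    (hB : algebraMap Γ(S, U) Γ(B.left, V) = (B.hom.appLE U V eV.le).hom)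
    (hA : algebraMap Γ(S, U) Γ(A.left, W) = (A.hom.appLE U W eW.le).hom)
    (φ : Γ(B.left, V) →ₐ[Γ(S, U)] Γ(A.left, W))
    (hφ : φ.toRingHom = (f.left.appLE V W e).hom)
    (h : IsIso ((Over.pullback
      (Spec.map (CommRingCat.ofHom (algebraMap Γ(S, U) K)) ≫ hU.fromSpec)).map f)) :
    Function.Bijective (φ.toLinearMap.baseChange K) := by
  set t := Spec.map (CommRingCat.ofHom (algebraMap Γ(S, U) K)) ≫ hU.fromSpec
  have PA := isPullback_tensor A.hom hU hW eW K hA
  have PB := isPullback_tensor B.hom hU hV eV K hB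
  let ψ : K ⊗[Γ(S, U)] Γ(B.left, V) →ₐ[K] K ⊗[Γ(S, U)] Γ(A.left, W) :=
    Algebra.TensorProduct.map (AlgHom.id K K) φ
  have key : PA.isoPullback.hom ≫ ((Over.pullback t).map f).left =
      Spec.map (CommRingCat.ofHom ψ.toRingHom) ≫ PB.isoPullback.hom := by
    rw [pullback_map_left]
    apply pullback.hom_ext
    · simp only [Category.assoc, pullback.lift_fst]
      rw [IsPullback.isoPullback_hom_fst, PA.isoPullback_hom_fst_assoc, Category.assoc,
        ← IsAffineOpen.SpecMap_appLE_fromSpec f.left hV hW e, ← Category.assoc, ← Spec.map_comp,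
        ← Category.assoc, ← Spec.map_comp]
      congr 2
      apply CommRingCat.hom_ext
      refine RingHom.ext fun x => ?_
      change (1 : K) ⊗ₜ[Γ(S, U)] (f.left.appLE V W e).hom x = ψ (1 ⊗ₜ x)
      rw [← hφ]
      simp [ψ]
    · simp only [Category.assoc, pullback.lift_snd, Category.comp_id]
      rw [IsPullback.isoPullback_hom_snd, IsPullback.isoPullback_hom_snd, ← Spec.map_comp]
      congr 1
      apply CommRingCat.hom_ext
      refine RingHom.ext fun x => ?_
      change x ⊗ₜ[Γ(S, U)] (1 : Γ(A.left, W)) = ψ (x ⊗ₜ 1)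
      simp [ψ]
  haveI : IsIso ((Over.pullback t).map f).left :=
    inferInstanceAs (IsIso ((Over.forget _).map ((Over.pullback t).map f)))
  haveI : IsIso (Spec.map (CommRingCat.ofHom ψ.toRingHom) ≫ PB.isoPullback.hom) := by
    rw [← key]; infer_instance
  haveI := IsIso.of_isIso_comp_right (Spec.map (CommRingCat.ofHom ψ.toRingHom)) PB.isoPullback.hom
  have hbij : Function.Bijective ψ := isIso_SpecMap_iff.mp this
  have heq : ⇑(φ.toLinearMap.baseChange K) = ⇑ψ := by
    funext x
    induction x using TensorProduct.induction_on with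
    | zero => simp
    | tmul a b => simp [ψ]
    | add a b ha hb => simp [ha, hb]
  rw [heq]
  exact hbij

set_option backward.isDefEq.respectTransparency false in
theorem isIso_of_fibres [IsNoetherian S] {A B : Over S}
    [IsFinite A.hom] [Flat A.hom] [IsFinite B.hom] [Flat B.hom] (f : A ⟶ B)
    (h : ∀ s : S, ringKrullDim (S.presheaf.stalk s) ≤ 1 →
      IsIso ((Over.pullback (S.fromSpecResidueField s)).map f)) : IsIso f.left := by
  have hsup : (⨆ U : S.affineOpens, B.hom ⁻¹ᵁ U.1) = ⊤ := by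
    rw [← Scheme.Hom.preimage_iSup, iSup_affineOpens_eq_top]
    rfl
  change MorphismProperty.isomorphisms Scheme f.left
  refine HasAffineProperty.of_iSup_eq_top (P := MorphismProperty.isomorphisms Scheme)
    (Q := fun X _ f _ => IsAffine X ∧ IsIso f.appTop)
    (fun U : S.affineOpens => ⟨B.hom ⁻¹ᵁ U.1, U.2.preimage B.hom⟩) hsup (fun U => ?_)
  have hWeq : f.left ⁻¹ᵁ (B.hom ⁻¹ᵁ U.1) = A.hom ⁻¹ᵁ U.1 := by
    rw [← Scheme.Hom.comp_preimage, Over.w f]
  have hW : IsAffineOpen (f.left ⁻¹ᵁ (B.hom ⁻¹ᵁ U.1)) := hWeq ▸ U.2.preimage A.hom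
  refine ⟨hW, ?_⟩
  suffices hiso : IsIso (f.left.app (B.hom ⁻¹ᵁ U.1)) by
    simp only [Opens.map_top, morphismRestrict_app]
    refine IsIso.comp_isIso' ?_ inferInstance
    exact Eq.mpr (congrArg (fun O => IsIso (f.left.app O))
      (Scheme.Opens.ι_image_top (B.hom ⁻¹ᵁ U.1))) hiso
  set V := B.hom ⁻¹ᵁ U.1 with hVdef
  set W := f.left ⁻¹ᵁ V with hWdef
  have hV : IsAffineOpen V := U.2.preimage B.hom
  have eW : W = A.hom ⁻¹ᵁ U.1 := hWeq
  haveI : IsNoetherianRing Γ(S, U.1) := IsLocallyNoetherian.component_noetherian U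
  letI : Algebra Γ(S, U.1) Γ(B.left, V) := (B.hom.appLE U.1 V le_rfl).hom.toAlgebra
  letI : Algebra Γ(S, U.1) Γ(A.left, W) := (A.hom.appLE U.1 W eW.le).hom.toAlgebra
  let φ : Γ(B.left, V) →ₐ[Γ(S, U.1)] Γ(A.left, W) :=
    { (f.left.appLE V W le_rfl).hom with
      commutes' := fun r => by
        change ((B.hom.appLE U.1 V le_rfl ≫ f.left.appLE V W le_rfl).hom) r =
          (A.hom.appLE U.1 W eW.le).hom r
        rw [Scheme.Hom.appLE_comp_appLE]
        simp only [Over.w f] }
  haveI : Module.Finite Γ(S, U.1) Γ(B.left, V) := by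
    have hfin := B.hom.finite_app U.1 U.2
    rw [Scheme.Hom.app_eq_appLE] at hfin
    exact hfin
  haveI : Module.Finite Γ(S, U.1) Γ(A.left, W) := by
    have hfin : ∀ (W' : A.left.Opens) (eq : W' = A.hom ⁻¹ᵁ U.1),
        (A.hom.appLE U.1 W' eq.le).hom.Finite := by
      rintro _ rfl
      have hfin := A.hom.finite_app U.1 U.2
      rwa [Scheme.Hom.app_eq_appLE] at hfin
    exact hfin W eW
  haveI : Module.Flat Γ(S, U.1) Γ(B.left, V) := B.hom.flat_appLE U.2 hV le_rfl
  haveI : Module.Flat Γ(S, U.1) Γ(A.left, W) := A.hom.flat_appLE U.2 hW eW.le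
  haveI : Module.FinitePresentation Γ(S, U.1) Γ(B.left, V) :=
    Module.finitePresentation_of_finite _ _
  haveI : Module.FinitePresentation Γ(S, U.1) Γ(A.left, W) :=
    Module.finitePresentation_of_finite _ _
  haveI : Module.Projective Γ(S, U.1) Γ(B.left, V) := Module.Flat.projective_of_finitePresentation
  haveI : Module.Projective Γ(S, U.1) Γ(A.left, W) := Module.Flat.projective_of_finitePresentation
  have hbij : Function.Bijective φ.toLinearMap := by
    refine bijective_of_fibreBij _ fun K _ _ hK => ?_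
    haveI : (RingHom.ker (algebraMap Γ(S, U.1) K)).IsPrime := RingHom.ker_isPrime _
    refine bijective_of_isIso_pullback f U.2 hV rfl hW eW le_rfl K rfl rfl φ rfl
      (isIso_pullback_field f K _ (h _ ?_))
    set y : PrimeSpectrum Γ(S, U.1) :=
      ⟨RingHom.ker (algebraMap Γ(S, U.1) K), RingHom.ker_isPrime _⟩
    have hpt : Spec.map (CommRingCat.ofHom (algebraMap Γ(S, U.1) K))
        (IsLocalRing.closedPoint K) = y := by
      apply PrimeSpectrum.ext
      change Ideal.comap (algebraMap Γ(S, U.1) K) (IsLocalRing.maximalIdeal K) = _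
      rw [IsLocalRing.maximalIdeal_eq_bot]
      rfl
    rw [Scheme.Hom.comp_apply, hpt]
    have hy : U.2.fromSpec y ∈ U.1 := by
      rw [← SetLike.mem_coe, ← U.2.range_fromSpec]
      exact ⟨y, rfl⟩
    letI := TopCat.Presheaf.algebra_section_stalk S.presheaf ⟨U.2.fromSpec y, hy⟩
    haveI := U.2.isLocalization_stalk' y hy
    rw [IsLocalization.AtPrime.ringKrullDim_eq_height y.asIdeal]
    exact_mod_cast hK
  rw [Scheme.Hom.app_eq_appLE, ConcreteCategory.isIso_iff_bijective]
  exact hbij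

theorem surjective_of_codimZero [IsNoetherian S] {X : Scheme.{u}} (p : X ⟶ S) [IsFinite p]
    (h : ∀ s : S, ringKrullDim (S.presheaf.stalk s) ≤ 1 → s ∈ Set.range p.base) :
    Function.Surjective p.base := by
  intro s
  obtain ⟨U, hU, hsU, -⟩ := Opens.isBasis_iff_nbhd.mp S.isBasis_affineOpens
    (show s ∈ (⊤ : S.Opens) from trivial)
  replace hU : IsAffineOpen U := hU
  obtain ⟨x, rfl⟩ : s ∈ Set.range hU.fromSpec := by rw [hU.range_fromSpec]; exact hsU
  haveI : x.asIdeal.IsPrime := x.isPrime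
  obtain ⟨q, hq, hqx⟩ := Ideal.exists_minimalPrimes_le
    (bot_le : (⊥ : Ideal Γ(S, U)) ≤ x.asIdeal)
  haveI := hq.isPrime
  let η : PrimeSpectrum Γ(S, U) := ⟨q, inferInstance⟩
  have hη : hU.fromSpec η ∈ U := by
    rw [← SetLike.mem_coe, ← hU.range_fromSpec]
    exact ⟨η, rfl⟩
  have hclosed : IsClosed (Set.range p.base) := p.isClosedMap.isClosed_range
  have hspec : hU.fromSpec η ⤳ hU.fromSpec x :=
    ((PrimeSpectrum.le_iff_specializes η x).mp hqx).map hU.fromSpec.continuous
  refine hspec.mem_closed hclosed (h _ ?_)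
  letI := TopCat.Presheaf.algebra_section_stalk S.presheaf ⟨hU.fromSpec η, hη⟩
  haveI : IsLocalization.AtPrime (S.presheaf.stalk (hU.fromSpec η)) η.asIdeal :=
    hU.isLocalization_stalk' η hη
  rw [IsLocalization.AtPrime.ringKrullDim_eq_height η.asIdeal,
    Ideal.height_eq_zero_iff.mpr (by exact hq)]
  exact zero_le_one

end Groth.Agent.CodimOne28
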